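import Mathlib.RingTheory.DiscreteValuationRing.TFAE
import Mathlib.RingTheory.Localization.Integral
import Mathlib.RingTheory.Localization.AtPrime.Basic
import Groth.Agent.Ega4B.Zariski

/-!
# Associated primes of principal ideals in normal Noetherian domains
-/

set_option autoImplicit false

namespace Groth.Agent.Ega4B.NormalAssoc

open IsLocalRing

theorem maximalIdeal_eq_span_of_colon {R : Type*} [CommRing R] [IsLocalRing R] [IsDomain R]
    [IsNoetherianRing R] [IsIntegrallyClosed R] (a b : R) (ha₂ : a ≠ 0) (ha₁ : a ∈ maximalIdeal R)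
    (hb₂ : b ∉ Ideal.span {a}) (hb₃ : ∀ m ∈ maximalIdeal R, ∃ k : R, k * a = b * m) :
    ∃ y : R, y ≠ 0 ∧ maximalIdeal R = Ideal.span {y} := by
  have hb₄ : b ≠ 0 := by rintro rfl; apply hb₂; exact zero_mem _
  let K := FractionRing R
  let x : K := algebraMap R K b / algebraMap R K a
  let M := Submodule.map (Algebra.linearMap R K) (maximalIdeal R)
  have ha₃ : algebraMap R K a ≠ 0 := IsFractionRing.to_map_eq_zero_iff.not.mpr ha₂
  by_cases hx : ∀ y ∈ M, x * y ∈ M
  · have := isIntegral_of_smul_mem_submodule M ?_ ?_ x hx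
    · obtain ⟨y, e⟩ := IsIntegrallyClosed.algebraMap_eq_of_integral this
      refine (hb₂ (Ideal.mem_span_singleton'.mpr ⟨y, ?_⟩)).elim
      apply IsFractionRing.injective R K
      rw [map_mul, e, div_mul_cancel₀ _ ha₃]
    · rw [Submodule.ne_bot_iff]; refine ⟨_, ⟨a, ha₁, rfl⟩, ?_⟩
      exact (IsFractionRing.to_map_eq_zero_iff (K := K)).not.mpr ha₂
    · apply Submodule.FG.map; exact IsNoetherian.noetherian _
  · have :
        (M.map (DistribSMul.toLinearMap R K x)).comap (Algebra.linearMap R K) = ⊤ := by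
      contrapose! hx with h
      rintro m' ⟨m, hm, rfl : algebraMap R K m = m'⟩
      obtain ⟨k, hk⟩ := hb₃ m hm
      have hk' : x * algebraMap R K m = algebraMap R K k := by
        rw [← mul_div_right_comm, ← map_mul, ← hk, map_mul, mul_div_cancel_right₀ _ ha₃]
      exact ⟨k, le_maximalIdeal h ⟨_, ⟨_, hm, rfl⟩, hk'⟩, hk'.symm⟩
    obtain ⟨y, hy₁, hy₂⟩ : ∃ y ∈ maximalIdeal R, b * y = a := by
      rw [Ideal.eq_top_iff_one, Submodule.mem_comap] at this
      obtain ⟨_, ⟨y, hy, rfl⟩, hy' : x * algebraMap R K y = algebraMap R K 1⟩ := this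
      rw [map_one, ← mul_div_right_comm, div_eq_one_iff_eq ha₃, ← map_mul] at hy'
      exact ⟨y, hy, IsFractionRing.injective R K hy'⟩
    refine ⟨y, ?_, ?_⟩
    · rintro rfl
      exact ha₂ (by rw [← hy₂, mul_zero])
    apply le_antisymm
    · intro m hm; obtain ⟨k, hk⟩ := hb₃ m hm; rw [← hy₂, mul_comm, mul_assoc] at hk
      rw [← mul_left_cancel₀ hb₄ hk, mul_comm]; exact Ideal.mem_span_singleton'.mpr ⟨_, rfl⟩
    · rwa [Submodule.span_le, Set.singleton_subset_iff]

/-- If `q` is an associated prime of `R / tR` with `R` a normal Noetherian domain and `t ≠ 0` then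
`q R_q` is generated by a nonzerodivisor. -/
theorem exists_generator_of_mem_associatedPrimes {R : Type*} [CommRing R] [IsDomain R]
    [IsNoetherianRing R] [IsIntegrallyClosed R] {t : R} (ht : t ≠ 0) {q : Ideal R} [q.IsPrime]
    (hq : q ∈ associatedPrimes R (R ⧸ Ideal.span {t})) :
    ∃ π : Localization.AtPrime q, π ∈ nonZeroDivisors (Localization.AtPrime q) ∧
      maximalIdeal (Localization.AtPrime q) = Ideal.span {π} := by
  rw [Zariski.mem_associatedPrimes_quotient_iff] at hq
  obtain ⟨-, b, hb⟩ := hq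
  have hic : IsIntegrallyClosed (Localization.AtPrime q) :=
    isIntegrallyClosed_of_isLocalization _ q.primeCompl q.primeCompl_le_nonZeroDivisors
  have htq : t ∈ q := by
    rw [hb]
    exact Ideal.mul_mem_right _ _ (Ideal.mem_span_singleton_self t)
  have hinj : Function.Injective (algebraMap R (Localization.AtPrime q)) :=
    IsLocalization.injective _ q.primeCompl_le_nonZeroDivisors
  obtain ⟨y, hy0, hy⟩ := maximalIdeal_eq_span_of_colon
    (algebraMap R (Localization.AtPrime q) t) (algebraMap R (Localization.AtPrime q) b)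
    (by simpa using hinj.ne ht)
    (by rw [← Localization.AtPrime.map_eq_maximalIdeal]; exact Ideal.mem_map_of_mem _ htq)
    (by
      intro h
      obtain ⟨z, hz⟩ := Ideal.mem_span_singleton'.mp h
      obtain ⟨⟨c, s⟩, hc⟩ := IsLocalization.surj q.primeCompl z
      simp only at hc
      have h1 : algebraMap R (Localization.AtPrime q) (c * t) =
          algebraMap R (Localization.AtPrime q) (s * b) := by
        rw [map_mul, map_mul, ← hc, ← hz]; ring
      have h2 := hinj h1
      have h3 : (s : R) * b ∈ Ideal.span {t} := by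
        rw [← h2]; exact Ideal.mul_mem_left _ _ (Ideal.mem_span_singleton_self t)
      exact s.2 ((hb _).mpr h3))
    (by
      intro m hm
      rw [← Localization.AtPrime.map_eq_maximalIdeal,
        IsLocalization.mem_map_algebraMap_iff q.primeCompl] at hm
      obtain ⟨⟨⟨c, hc⟩, s⟩, hm⟩ := hm
      simp only at hm
      obtain ⟨k, hk⟩ := Ideal.mem_span_singleton'.mp ((hb c).mp hc)
      refine ⟨IsLocalization.mk' _ k s, ?_⟩
      have hu := IsLocalization.map_units (Localization.AtPrime q) s
      apply hu.mul_left_cancel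
      rw [← mul_assoc, mul_comm (algebraMap R (Localization.AtPrime q) s)
        (IsLocalization.mk' _ k s), IsLocalization.mk'_spec, ← map_mul, hk, map_mul, ← hm]
      ring)
  exact ⟨y, mem_nonZeroDivisors_of_ne_zero hy0, hy⟩

end Groth.Agent.Ega4B.NormalAssoc
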