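import Mathlib.RingTheory.Regular.RegularSequence
import Mathlib.RingTheory.Ideal.AssociatedPrime.Finiteness
import Mathlib.RingTheory.Nakayama
import Mathlib.LinearAlgebra.Matrix.Adjugate
import Mathlib.LinearAlgebra.Matrix.NonsingularInverse
import Mathlib.Tactic.LinearCombination

/-!
# Linkage by a complete intersection

If `f = M h` with `f`, `h` regular sequences in the maximal ideal of a Noetherian local ring, then
`(f) : (h) = (f) + (det M)`.

* `exists_add_notMem`: prime avoidance for cosets.
* `RegMod J x`: the tuple `x` is a (weakly) regular sequence modulo the ideal `J`.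
* `mem_sup_span_det`: the linkage lemma, relative to a base ideal `J`.
* `colon_le`: the absolute form with Mathlib's `IsWeaklyRegular`.
-/

set_option autoImplicit false

open Ideal IsLocalRing RingTheory.Sequence

namespace Groth.Agent.Ega4B.Linkage

universe u

section Avoid

variable {R : Type u} [CommRing R]

/-- Prime avoidance for cosets: if `(x) + I` is contained in none of the finitely many primes `P ∈ S`, then some
element of `x + I` lies in none of them. -/
theorem exists_add_notMem (S : Finset (Ideal R)) (hS : ∀ P ∈ S, P.IsPrime) (x : R) (I : Ideal R)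
    (h : ∀ P ∈ S, ¬ (span {x} ⊔ I ≤ P)) : ∃ y ∈ I, ∀ P ∈ S, x + y ∉ P := by
  classical
  induction S using Finset.strongInductionOn with
  | _ S ih =>
    rcases S.eq_empty_or_nonempty with rfl | hne
    · exact ⟨0, I.zero_mem, fun P hP => absurd hP (Finset.notMem_empty P)⟩
    obtain ⟨P, hPS, hPmin⟩ := S.exists_minimal hne
    obtain ⟨y, hy, hyS⟩ := ih (S.erase P) (Finset.erase_ssubset hPS)
      (fun Q hQ => hS Q (Finset.mem_of_mem_erase hQ)) (fun Q hQ => h Q (Finset.mem_of_mem_erase hQ))
    by_cases hyP : x + y ∈ P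
    · have hPp := hS P hPS
      have hIP : ¬ I ≤ P := by
        intro hIP
        apply h P hPS
        refine sup_le ?_ hIP
        rw [span_singleton_le_iff_mem]
        have := P.sub_mem hyP (hIP hy)
        simpa using this
      have hinf : ¬ I ⊓ (S.erase P).inf id ≤ P := by
        intro hle
        rcases (hPp.inf_le).1 hle with h1 | h1
        · exact hIP h1
        · obtain ⟨Q, hQ, hQP⟩ := (hPp.inf_le').1 h1
          have hQS := Finset.mem_of_mem_erase hQ
          have := hPmin hQS hQP
          exact (Finset.ne_of_mem_erase hQ) (le_antisymm hQP this)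
      obtain ⟨z, hz, hzP⟩ := Set.not_subset.1 hinf
      have hzI : z ∈ I := (mem_inf.1 hz).1
      have hzQ : ∀ Q ∈ S.erase P, z ∈ Q := by
        intro Q hQ
        exact (Finset.inf_le (f := id) hQ) (mem_inf.1 hz).2
      refine ⟨y + z, I.add_mem hy hzI, ?_⟩
      intro Q hQ hmem
      by_cases hQP : Q = P
      · subst hQP
        apply hzP
        have := Q.sub_mem hmem hyP
        have e : x + (y + z) - (x + y) = z := by ring
        rwa [e] at this
      · have hQ' : Q ∈ S.erase P := Finset.mem_erase.2 ⟨hQP, hQ⟩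
        apply hyS Q hQ'
        have := Q.sub_mem hmem (hzQ Q hQ')
        have e : x + (y + z) - z = x + y := by ring
        rwa [e] at this
    · refine ⟨y, hy, ?_⟩
      intro Q hQ
      by_cases hQP : Q = P
      · subst hQP; exact hyP
      · exact hyS Q (Finset.mem_erase.2 ⟨hQP, hQ⟩)

theorem mem_colon_mk_iff (F : Ideal R) (y r : R) :
    y ∈ (⊥ : Submodule R (R ⧸ F)).colon {Ideal.Quotient.mk F r} ↔ y * r ∈ F := by
  rw [Submodule.mem_colon_singleton, Submodule.mem_bot, Algebra.smul_def, Ideal.Quotient.algebraMap_eq,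
    ← map_mul, Ideal.Quotient.eq_zero_iff_mem]

/-- In a Noetherian ring, an element outside all associated primes of `R ⧸ F` is a nonzerodivisor modulo `F`. -/
theorem mem_of_mul_mem_of_notMem [IsNoetherianRing R] (F : Ideal R) (y : R)
    (hy : ∀ P ∈ associatedPrimes R (R ⧸ F), y ∉ P) (r : R) (hr : y * r ∈ F) : r ∈ F := by
  by_contra hrF
  have hne : (Ideal.Quotient.mk F r) ≠ 0 := by
    rwa [Ne, Ideal.Quotient.eq_zero_iff_mem]
  obtain ⟨P, hP, hle⟩ := exists_le_isAssociatedPrime_of_isNoetherianRing R (Ideal.Quotient.mk F r) hne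
  exact hy P hP (hle ((mem_colon_mk_iff F y r).2 hr))

/-- If `y` is a nonzerodivisor modulo `F` then `y` is in no associated prime of `R ⧸ F`. -/
theorem notMem_of_forall (F : Ideal R) (y : R) (hy : ∀ r, y * r ∈ F → r ∈ F)
    (P : Ideal R) (hP : P ∈ associatedPrimes R (R ⧸ F)) : y ∉ P := by
  intro hyP
  obtain ⟨hPp, z, hz⟩ := hP
  obtain ⟨r, rfl⟩ := Ideal.Quotient.mk_surjective z
  rw [hz] at hyP
  obtain ⟨n, hn⟩ := hyP
  rw [mem_colon_mk_iff] at hn
  have key : ∀ m : ℕ, y ^ m * r ∈ F → r ∈ F := by
    intro m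
    induction m with
    | zero => intro h; simpa using h
    | succ m ih =>
      intro h
      apply ih
      apply hy
      have e : y * (y ^ m * r) = y ^ (m + 1) * r := by ring
      rwa [e]
  have h2 := key n hn
  apply hPp.ne_top
  rw [Ideal.eq_top_iff_one, hz]
  refine ⟨1, ?_⟩
  rw [mem_colon_mk_iff]
  simpa using h2

end Avoid

section Reg

set_option linter.unusedSectionVars false

variable {R : Type u} [CommRing R]

/-- The tuple `x` is a weakly regular sequence modulo the ideal `J`. -/
def RegMod (J : Ideal R) : (n : ℕ) → (Fin n → R) → Prop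
  | 0, _ => True
  | n + 1, x => RegMod J n (fun i => x i.castSucc) ∧
      ∀ r, x (Fin.last n) * r ∈ J ⊔ span (Set.range fun i : Fin n => x i.castSucc) →
        r ∈ J ⊔ span (Set.range fun i : Fin n => x i.castSucc)

theorem range_castSucc_union {n : ℕ} (x : Fin (n + 1) → R) :
    Set.range x = (Set.range fun i : Fin n => x i.castSucc) ∪ {x (Fin.last n)} := by
  ext r
  constructor
  · rintro ⟨i, rfl⟩
    refine Fin.lastCases ?_ (fun i => ?_) i
    · right; rfl
    · left; exact ⟨i, rfl⟩
  · rintro (⟨i, rfl⟩ | rfl)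
    · exact ⟨i.castSucc, rfl⟩
    · exact ⟨Fin.last n, rfl⟩

theorem sup_span_range_succ {n : ℕ} (J : Ideal R) (x : Fin (n + 1) → R) :
    J ⊔ span (Set.range x) = J ⊔ span (Set.range fun i : Fin n => x i.castSucc) ⊔ span {x (Fin.last n)} := by
  rw [range_castSucc_union, span_union, sup_assoc]

theorem sup_span_range_zero (J : Ideal R) (x : Fin 0 → R) : J ⊔ span (Set.range x) = J := by
  simp

theorem mem_sup_span_singleton_iff (F : Ideal R) (y r : R) :
    r ∈ F ⊔ span {y} ↔ ∃ a ∈ F, ∃ s, r = a + y * s := by
  rw [Submodule.mem_sup]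
  constructor
  · rintro ⟨a, ha, b, hb, rfl⟩
    obtain ⟨s, rfl⟩ := mem_span_singleton.1 hb
    exact ⟨a, ha, s, rfl⟩
  · rintro ⟨a, ha, s, rfl⟩
    exact ⟨a, ha, y * s, mem_span_singleton.2 ⟨s, rfl⟩, rfl⟩

variable [IsLocalRing R] [IsNoetherianRing R]

/-- Swapping two consecutive elements of a regular sequence in a Noetherian local ring. -/
theorem swap (J : Ideal R) {x y : R} (hx : x ∈ maximalIdeal R)
    (h1 : ∀ r, x * r ∈ J → r ∈ J) (h2 : ∀ r, y * r ∈ J ⊔ span {x} → r ∈ J ⊔ span {x}) :
    (∀ r, y * r ∈ J → r ∈ J) ∧ ∀ r, x * r ∈ J ⊔ span {y} → r ∈ J ⊔ span {y} := by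
  have hyJ : ∀ r, y * r ∈ J → r ∈ J := by
    let N : Ideal R :=
      { carrier := {r | y * r ∈ J}
        add_mem' := fun {a b} ha hb => by
          change y * (a + b) ∈ J
          rw [mul_add]; exact J.add_mem ha hb
        zero_mem' := by change y * 0 ∈ J; rw [mul_zero]; exact J.zero_mem
        smul_mem' := fun c a ha => by
          change y * (c * a) ∈ J
          have e : y * (c * a) = c * (y * a) := by ring
          rw [e]; exact J.mul_mem_left c ha }
    have hN : N ≤ J ⊔ maximalIdeal R • N := by
      intro r hr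
      have hr' : y * r ∈ J := hr
      obtain ⟨j, hj, s, rfl⟩ := (mem_sup_span_singleton_iff J x r).1 (h2 r (le_sup_left (a := J) hr'))
      have h3 : x * (y * s) ∈ J := by
        have : y * (j + x * s) - y * j ∈ J := J.sub_mem hr' (J.mul_mem_left y hj)
        have e : y * (j + x * s) - y * j = x * (y * s) := by ring
        rwa [e] at this
      have hs : s ∈ N := h1 _ h3
      exact Submodule.add_mem_sup hj (Submodule.smul_mem_smul hx hs)
    have := Submodule.le_of_le_smul_of_le_jacobson_bot (I := maximalIdeal R) (N := J) (N' := N)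
      (IsNoetherian.noetherian N) (IsLocalRing.maximalIdeal_le_jacobson ⊥) hN
    intro r hr
    exact this hr
  refine ⟨hyJ, ?_⟩
  intro r hr
  obtain ⟨j, hj, s, hs⟩ := (mem_sup_span_singleton_iff J y (x * r)).1 hr
  have h3 : y * s ∈ J ⊔ span {x} := by
    have e : y * s = -j + x * r := by rw [hs]; ring
    rw [e]
    exact (mem_sup_span_singleton_iff J x _).2 ⟨-j, J.neg_mem hj, r, rfl⟩
  obtain ⟨j', hj', s', hs'⟩ := (mem_sup_span_singleton_iff J x s).1 (h2 s h3)
  have h4 : x * (r - y * s') ∈ J := by
    have e : x * (r - y * s') = j + y * j' := by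
      have : x * r = j + y * (j' + x * s') := by rw [hs, hs']
      linear_combination this
    rw [e]
    exact J.add_mem hj (J.mul_mem_left y hj')
  have h5 := h1 _ h4
  exact (mem_sup_span_singleton_iff J y r).2 ⟨r - y * s', h5, s', by ring⟩

/-- Moving the last element of a regular sequence to the front. -/
theorem moveLast : ∀ (n : ℕ) (J : Ideal R) (x : Fin n → R) (y : R), (∀ i, x i ∈ maximalIdeal R) →
    RegMod J n x → (∀ r, y * r ∈ J ⊔ span (Set.range x) → r ∈ J ⊔ span (Set.range x)) →
    (∀ r, y * r ∈ J → r ∈ J) ∧ RegMod (J ⊔ span {y}) n x := by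
  intro n
  induction n with
  | zero =>
    intro J x y _ _ h
    rw [sup_span_range_zero] at h
    exact ⟨h, trivial⟩
  | succ n ih =>
    intro J x y hx hreg h
    obtain ⟨hreg1, hreg2⟩ := hreg
    rw [sup_span_range_succ] at h
    obtain ⟨h3, h4⟩ := swap _ (hx (Fin.last n)) hreg2 h
    obtain ⟨h5, h6⟩ := ih J _ y (fun i => hx _) hreg1 h3
    refine ⟨h5, h6, ?_⟩
    have e : J ⊔ span {y} ⊔ span (Set.range fun i : Fin n => x i.castSucc) =
        J ⊔ span (Set.range fun i : Fin n => x i.castSucc) ⊔ span {y} := by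
      rw [sup_right_comm]
    rw [e]
    exact h4

omit [IsLocalRing R] [IsNoetherianRing R] in
/-- Cramer's rule in the form needed below. -/
theorem cramer_last {n : ℕ} (F : Ideal R) (f h : Fin (n + 1) → R) (M : Matrix (Fin (n + 1)) (Fin (n + 1)) R)
    (c : Fin n → R) (h' : R) (hh : h' = h (Fin.last n) + ∑ j, c j * h j.castSucc)
    (hM : ∀ i, f i - ∑ j, M i j * h j ∈ F) (hf : ∀ i : Fin n, f i.castSucc ∈ F) :
    h' * M.det - f (Fin.last n) *
      (Matrix.of fun i j : Fin n => M i.castSucc j.castSucc - M i.castSucc (Fin.last n) * c j).det ∈ F := by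
  classical
  set c' : Fin (n + 1) → R := Fin.lastCases (motive := fun _ => R) 0 c with hc'
  have hc'l : c' (Fin.last n) = 0 := by simp [hc']
  have hc'c : ∀ j : Fin n, c' j.castSucc = c j := by intro j; simp [hc']
  set h'' : Fin (n + 1) → R := Fin.lastCases (motive := fun _ => R) h' (fun j => h j.castSucc) with hh''
  have hh''l : h'' (Fin.last n) = h' := by simp [hh'']
  have hh''c : ∀ j : Fin n, h'' j.castSucc = h j.castSucc := by intro j; simp [hh'']
  set M' : Matrix (Fin (n + 1)) (Fin (n + 1)) R := Matrix.of fun i j => M i j - M i (Fin.last n) * c' j with hM'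
  have hM'l : ∀ i, M' i (Fin.last n) = M i (Fin.last n) := by
    intro i; simp [hM', hc'l]
  have hM'c : ∀ i (j : Fin n), M' i j.castSucc = M i j.castSucc - M i (Fin.last n) * c j := by
    intro i j; simp [hM', hc'c]
  have hdet : M.det = M'.det := by
    rw [← Matrix.det_transpose M, ← Matrix.det_transpose M']
    refine Matrix.det_eq_of_forall_row_eq_smul_add_const c' (Fin.last n) hc'l ?_
    intro i j
    simp only [Matrix.transpose_apply, hM', Matrix.of_apply, hc'l]
    ring
  have hsum : ∀ i, ∑ j, M' i j * h'' j = ∑ j, M i j * h j := by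
    intro i
    rw [Fin.sum_univ_castSucc, Fin.sum_univ_castSucc]
    simp only [hM'l, hM'c, hh''l, hh''c]
    rw [hh, mul_add, Finset.mul_sum]
    simp only [sub_mul, Finset.sum_sub_distrib]
    have : ∀ j : Fin n, M i (Fin.last n) * (c j * h j.castSucc) = M i (Fin.last n) * c j * h j.castSucc := by
      intro j; ring
    simp only [this]
    ring
  have hadj : h' * M'.det = ∑ i, M'.adjugate (Fin.last n) i * ∑ j, M' i j * h'' j := by
    have h1 : (M'.adjugate * M').mulVec h'' = M'.det • h'' := by
      rw [Matrix.adjugate_mul, Matrix.smul_mulVec, Matrix.one_mulVec]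
    have h2 := congrFun h1 (Fin.last n)
    rw [← Matrix.mulVec_mulVec] at h2
    simp only [Matrix.mulVec, dotProduct, Pi.smul_apply, smul_eq_mul, hh''l] at h2
    rw [mul_comm h', ← h2]
  have hmin : M'.adjugate (Fin.last n) (Fin.last n) =
      (Matrix.of fun i j : Fin n => M i.castSucc j.castSucc - M i.castSucc (Fin.last n) * c j).det := by
    rw [Matrix.adjugate_fin_succ_eq_det_submatrix]
    have h1 : ((-1 : R) ^ (((Fin.last n : Fin (n + 1)) : ℕ) + ((Fin.last n : Fin (n + 1)) : ℕ))) = 1 := by
      rw [← two_mul, pow_mul]; simp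
    rw [h1, one_mul]
    congr 1
    ext i j
    simp only [Matrix.submatrix_apply, Fin.succAbove_last, Matrix.of_apply, hM'c]
  rw [hdet, hadj, Fin.sum_univ_castSucc, hmin]
  have hterm : ∀ i, (∑ j, M' i j * h'' j) - f i ∈ F := by
    intro i
    rw [hsum]
    have := F.neg_mem (hM i)
    rwa [neg_sub] at this
  have e : ∀ (A D X Y : R), (A + D * X) - Y * D = A + D * (X - Y) := by intro A D X Y; ring
  rw [e]
  refine F.add_mem (F.sum_mem fun i _ => F.mul_mem_left _ ?_) (F.mul_mem_left _ (hterm _))
  have := F.add_mem (hterm i.castSucc) (hf i)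
  rwa [sub_add_cancel] at this

/-- **Linkage lemma**, relative to a base ideal `J`: if `f ≡ M h` modulo `J` with `f`, `h` regular modulo `J`, then
`(J + (f)) : (h) ≤ J + (f) + (det M)`. -/
theorem mem_sup_span_det : ∀ (n : ℕ) (J : Ideal R) (f h : Fin n → R) (M : Matrix (Fin n) (Fin n) R),
    (∀ i, f i ∈ maximalIdeal R) → (∀ i, h i ∈ maximalIdeal R) → RegMod J n f → RegMod J n h →
    (∀ i, f i - ∑ j, M i j * h j ∈ J) → ∀ r, (∀ j, r * h j ∈ J ⊔ span (Set.range f)) →
    r ∈ J ⊔ span (Set.range f) ⊔ span {M.det} := by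
  classical
  intro n
  induction n with
  | zero =>
    intro J f h M _ _ _ _ _ r _
    have : M.det = 1 := Matrix.det_isEmpty
    rw [this]
    have : span {(1 : R)} = ⊤ := by simp
    rw [this]
    simp
  | succ n ih =>
    intro J f h M hf hh hregf hregh hM r hr
    obtain ⟨hregf1, hregf2⟩ := hregf
    obtain ⟨hregh1, hregh2⟩ := hregh
    set F' : Ideal R := J ⊔ span (Set.range fun i : Fin n => f i.castSucc) with hF'
    have hJF' : J ≤ F' := le_sup_left
    have hfF' : ∀ i : Fin n, f i.castSucc ∈ F' := fun i => le_sup_right (a := J) (subset_span ⟨i, rfl⟩)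
    have hfin : (associatedPrimes R (R ⧸ F')).Finite := associatedPrimes.finite R (R ⧸ F')
    obtain ⟨y, hy, hyS⟩ := exists_add_notMem hfin.toFinset
      (fun P hP => ((Set.Finite.mem_toFinset hfin).1 hP).isPrime) (h (Fin.last n))
      (span (Set.range fun i : Fin n => h i.castSucc)) (by
        intro P hP hle
        have hP' := (Set.Finite.mem_toFinset hfin).1 hP
        have hF'P : F' ≤ P := by
          intro a ha
          obtain ⟨-, z, hz⟩ := hP'
          obtain ⟨b, rfl⟩ := Ideal.Quotient.mk_surjective z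
          rw [hz]
          apply Ideal.le_radical
          rw [mem_colon_mk_iff]
          exact F'.mul_mem_right _ ha
        refine notMem_of_forall F' (f (Fin.last n)) hregf2 P hP' ?_
        have h1 := hF'P (hJF' (hM (Fin.last n)))
        have h2 : ∑ j, M (Fin.last n) j * h j ∈ P := by
          refine P.sum_mem fun j _ => P.mul_mem_left _ (hle ?_)
          refine Fin.lastCases ?_ (fun j => ?_) j
          · exact le_sup_left (a := span {h (Fin.last n)}) (mem_span_singleton_self _)
          · exact le_sup_right (a := span {h (Fin.last n)}) (subset_span ⟨j, rfl⟩)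
        have := P.add_mem h1 h2
        rwa [sub_add_cancel] at this)
    obtain ⟨c, hc⟩ := (Ideal.mem_span_range_iff_exists_fun).1 hy
    set h' : R := h (Fin.last n) + y with hh'
    have hh'2 : h' = h (Fin.last n) + ∑ j, c j * h j.castSucc := by rw [hh', ← hc]
    have hh'F' : ∀ r, h' * r ∈ F' → r ∈ F' := by
      intro r hr
      exact mem_of_mul_mem_of_notMem F' h' (fun P hP => hyS P ((Set.Finite.mem_toFinset hfin).2 hP)) r hr
    have hym : y ∈ maximalIdeal R := by
      refine (span_le.2 ?_) hy
      rintro _ ⟨i, rfl⟩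
      exact hh _
    have hh'm : h' ∈ maximalIdeal R := (maximalIdeal R).add_mem (hh _) hym
    obtain ⟨-, hregf'⟩ := moveLast n J (fun i => f i.castSucc) h' (fun i => hf _) hregf1 hh'F'
    obtain ⟨-, hregh'⟩ := moveLast n J (fun i => h i.castSucc) h' (fun i => hh _) hregh1 (by
      intro r hr
      apply hregh2
      have h1 : y * r ∈ J ⊔ span (Set.range fun i : Fin n => h i.castSucc) :=
        le_sup_right (a := J) (Ideal.mul_mem_right _ _ hy)
      have := Ideal.sub_mem _ hr h1
      have e : h' * r - y * r = h (Fin.last n) * r := by rw [hh']; ring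
      rwa [e] at this)
    set A : Matrix (Fin n) (Fin n) R :=
      Matrix.of fun i j : Fin n => M i.castSucc j.castSucc - M i.castSucc (Fin.last n) * c j with hA
    have ihA := ih (J ⊔ span {h'}) (fun i => f i.castSucc) (fun i => h i.castSucc) A (fun i => hf _)
      (fun i => hh _) hregf' hregh' (by
        intro i
        have h1 := hM i.castSucc
        rw [Fin.sum_univ_castSucc] at h1
        refine (mem_sup_span_singleton_iff J h' _).2 ⟨_, h1, M i.castSucc (Fin.last n), ?_⟩
        rw [hh'2]
        simp only [hA, Matrix.of_apply, sub_mul, Finset.sum_sub_distrib]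
        have : ∀ j : Fin n, M i.castSucc (Fin.last n) * c j * h j.castSucc =
            M i.castSucc (Fin.last n) * (c j * h j.castSucc) := by intro j; ring
        simp only [this]
        rw [← Finset.mul_sum]
        ring)
    have hcr : h' * M.det - f (Fin.last n) * A.det ∈ F' :=
      cramer_last F' f h M c h' hh'2 (fun i => hJF' (hM i)) hfF'
    set fn := f (Fin.last n) with hfn
    -- `k`
    set k : Ideal R := F' ⊔ span {fn * h'} with hk
    have hr' : ∀ j, (r * h') * h j ∈ k := by
      intro j
      have h1 := hr j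
      rw [sup_span_range_succ] at h1
      obtain ⟨a, ha, s, hs⟩ := (mem_sup_span_singleton_iff _ _ _).1 h1
      refine (mem_sup_span_singleton_iff _ _ _).2 ⟨h' * a, Ideal.mul_mem_left _ _ ha, s, ?_⟩
      have : r * h' * h j = h' * (r * h j) := by ring
      rw [this, hs]; ring
    have hr'' : (r * h') * h' ∈ k := by
      rw [hh'2, mul_add, Finset.mul_sum]
      have e1 := hr' (Fin.last n)
      rw [hh'2] at e1
      refine Ideal.add_mem _ e1 (Ideal.sum_mem _ fun j _ => ?_)
      have e : r * (h (Fin.last n) + ∑ j, c j * h j.castSucc) * (c j * h j.castSucc) =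
        c j * (r * h' * h j.castSucc) := by rw [hh'2]; ring
      rw [e]
      exact Ideal.mul_mem_left _ _ (hr' j.castSucc)
    obtain ⟨a, ha, s, hs⟩ := (mem_sup_span_singleton_iff _ _ _).1 hr''
    have h5 : r * h' - fn * s ∈ F' := by
      apply hh'F'
      have e : h' * (r * h' - fn * s) = a := by
        have : r * h' * h' = a + fn * h' * s := hs
        linear_combination this
      rw [e]; exact ha
    have hsmem : s ∈ J ⊔ span {h'} ⊔ span (Set.range fun i : Fin n => f i.castSucc) ⊔ span {A.det} := by
      apply ihA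
      intro j
      have h6 : fn * s * h j.castSucc ∈ k := by
        have h7 := hr' j.castSucc
        have h8 : (r * h' - fn * s) * h j.castSucc ∈ k :=
          le_sup_left (a := F') (Ideal.mul_mem_right _ _ h5)
        have := Ideal.sub_mem _ h7 h8
        have e : r * h' * h j.castSucc - (r * h' - fn * s) * h j.castSucc = fn * s * h j.castSucc := by ring
        rwa [e] at this
      obtain ⟨b, hb, t, ht⟩ := (mem_sup_span_singleton_iff _ _ _).1 h6
      have h9 : s * h j.castSucc - h' * t ∈ F' := by
        apply hregf2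
        have e : fn * (s * h j.castSucc - h' * t) = b := by
          linear_combination ht
        rw [e]; exact hb
      have e : J ⊔ span {h'} ⊔ span (Set.range fun i : Fin n => f i.castSucc) = F' ⊔ span {h'} := by
        rw [hF', sup_right_comm]
      rw [e]
      exact (mem_sup_span_singleton_iff _ _ _).2 ⟨_, h9, t, by ring⟩
    have e1 : J ⊔ span {h'} ⊔ span (Set.range fun i : Fin n => f i.castSucc) = F' ⊔ span {h'} := by
      rw [hF', sup_right_comm]
    rw [e1] at hsmem
    obtain ⟨b, hb, t, rfl⟩ := (mem_sup_span_singleton_iff _ _ _).1 hsmem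
    obtain ⟨b', hb', t', rfl⟩ := (mem_sup_span_singleton_iff _ _ _).1 hb
    -- final step
    have h10 : r - fn * t' - M.det * t ∈ F' := by
      apply hh'F'
      have e : h' * (r - fn * t' - M.det * t) =
          (r * h' - fn * (b' + h' * t' + A.det * t)) + fn * b' - t * (h' * M.det - fn * A.det) := by ring
      rw [e]
      exact Ideal.sub_mem _ (Ideal.add_mem _ h5 (Ideal.mul_mem_left _ _ hb')) (Ideal.mul_mem_left _ _ hcr)
    rw [sup_span_range_succ]
    refine (mem_sup_span_singleton_iff _ _ _).2 ⟨r - M.det * t, ?_, t, by ring⟩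
    exact (mem_sup_span_singleton_iff _ _ _).2 ⟨_, h10, t', by ring⟩

end Reg

section Absolute

variable {R : Type u} [CommRing R]

theorem isSMulRegular_quotient_iff (I : Ideal R) (z : R) :
    IsSMulRegular (R ⧸ I) z ↔ ∀ r, z * r ∈ I → r ∈ I := by
  constructor
  · intro h r hr
    rw [← Ideal.Quotient.eq_zero_iff_mem]
    apply h
    change z • Ideal.Quotient.mk I r = z • (0 : R ⧸ I)
    rw [smul_zero, Algebra.smul_def, Ideal.Quotient.algebraMap_eq, ← map_mul, Ideal.Quotient.eq_zero_iff_mem]
    exact hr
  · intro h a b hab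
    obtain ⟨a, rfl⟩ := Ideal.Quotient.mk_surjective a
    obtain ⟨b, rfl⟩ := Ideal.Quotient.mk_surjective b
    change z • Ideal.Quotient.mk I a = z • Ideal.Quotient.mk I b at hab
    rw [Algebra.smul_def, Algebra.smul_def, Ideal.Quotient.algebraMap_eq, ← map_mul, ← map_mul,
      Ideal.Quotient.eq] at hab
    rw [Ideal.Quotient.eq]
    apply h
    rwa [mul_sub]

theorem ofList_ofFn : ∀ (n : ℕ) (x : Fin n → R), Ideal.ofList (List.ofFn x) = span (Set.range x) := by
  intro n x
  rw [Ideal.ofList]
  congr 1
  ext r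
  simp [List.mem_ofFn]

theorem regMod_bot_iff : ∀ (n : ℕ) (x : Fin n → R),
    RegMod (⊥ : Ideal R) n x ↔ IsWeaklyRegular R (List.ofFn x) := by
  intro n
  induction n with
  | zero => intro x; simp [RegMod]
  | succ n ih =>
    intro x
    rw [RegMod, ih, List.ofFn_succ', List.concat_eq_append, isWeaklyRegular_append_iff,
      isWeaklyRegular_singleton_iff]
    refine and_congr Iff.rfl ?_
    have e : (Ideal.ofList (List.ofFn fun i : Fin n => x i.castSucc) • ⊤ : Submodule R R) =
        span (Set.range fun i : Fin n => x i.castSucc) := by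
      rw [ofList_ofFn]
      exact (Ideal.smul_top_eq_map _).trans (by
        rw [Algebra.algebraMap_self, Ideal.map_id]; rfl)
    rw [e, bot_sup_eq]
    exact (isSMulRegular_quotient_iff _ _).symm

/-- **Linkage lemma.** `R` Noetherian local, `f`, `h` regular sequences of the same length in the maximal ideal with
`f = M h`. Then `(f) : (h) ≤ (f) + (det M)`. -/
theorem colon_le [IsLocalRing R] [IsNoetherianRing R] {n : ℕ} (f h : Fin n → R)
    (M : Matrix (Fin n) (Fin n) R) (hf : ∀ i, f i ∈ maximalIdeal R) (hh : ∀ i, h i ∈ maximalIdeal R)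
    (hfreg : IsWeaklyRegular R (List.ofFn f)) (hhreg : IsWeaklyRegular R (List.ofFn h))
    (hM : f = M.mulVec h) (r : R) (hr : ∀ j, r * h j ∈ span (Set.range f)) :
    r ∈ span (Set.range f) ⊔ span {M.det} := by
  have := mem_sup_span_det n ⊥ f h M hf hh ((regMod_bot_iff n f).2 hfreg) ((regMod_bot_iff n h).2 hhreg)
    (by
      intro i
      rw [hM]
      simp [Matrix.mulVec, dotProduct]) r (by intro j; rw [bot_sup_eq]; exact hr j)
  rwa [bot_sup_eq] at this

/-- The easy inclusion: `det M * h j ∈ (M h)`. -/
theorem det_mul_mem {n : ℕ} (h : Fin n → R) (M : Matrix (Fin n) (Fin n) R) (j : Fin n) :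
    M.det * h j ∈ span (Set.range (M.mulVec h)) := by
  have h1 : (M.adjugate * M).mulVec h = M.det • h := by
    rw [Matrix.adjugate_mul, Matrix.smul_mulVec, Matrix.one_mulVec]
  have h2 := congrFun h1 j
  rw [← Matrix.mulVec_mulVec] at h2
  simp only [Pi.smul_apply, smul_eq_mul] at h2
  rw [← h2]
  change ∑ i, M.adjugate j i * M.mulVec h i ∈ _
  exact Ideal.sum_mem _ fun i _ => Ideal.mul_mem_left _ _ (subset_span ⟨i, rfl⟩)

end Absolute

end Groth.Agent.Ega4B.Linkage
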