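import Groth.Agent.Divis.BlowUpFormal
import Groth.Prelude.Def_ArSurf
import Groth.Prelude.Def_Neron
import Groth.Prelude.Def_BlowUp2

/-!
# Chains of blow-ups of closed points of arithmetic surfaces

* `IsPtBlow π x`: the `Spec R`-morphism `π : Z ⟶ X` of arithmetic surfaces is the blow-up of the closed point `x`,
  whose local ring has dimension two.
* `Chain r n`: the `Spec R`-morphism `r : Z ⟶ X` is a composite of an isomorphism and `n` blow-ups of closed points.
-/

set_option autoImplicit false

universe u

open CategoryTheory CategoryTheory.Limits AlgebraicGeometry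

namespace Groth.Agent.Ega4B.PtChain

section

variable {R : Type u} [CommRing R]

theorem isIso_left {Z Y : Over (Spec (CommRingCat.of R))} (e : Z ⟶ Y) [IsIso e] : IsIso e.left :=
  inferInstanceAs (IsIso ((Over.forget _).map e))

theorem isArithSurface_of_iso {Z Y : Over (Spec (CommRingCat.of R))} (e : Z ⟶ Y) [IsIso e]
    (hY : ArSurf.IsArithSurface R Y) : ArSurf.IsArithSurface R Z := by
  obtain ⟨h1, h2, h3, h4, n, i, h5, h6⟩ := hY
  have he : IsIso e.left := isIso_left e
  refine ⟨fun z => ?_, ?_, ?_, ?_, n, e.left ≫ i, ?_, ?_⟩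
  · have := h1 (e.left z)
    exact IsRegularLocalRing.of_ringEquiv (asIso (e.left.stalkMap z)).commRingCatIsoToRingEquiv
  · have : Nonempty Z.left := by
      obtain ⟨y⟩ := h2.nonempty
      exact ⟨(inv e.left) y⟩
    exact isIntegral_of_isOpenImmersion e.left
  · rw [← h3]
    exact IsHomeomorph.topologicalKrullDim_eq e.left e.left.homeomorph.isHomeomorph
  · rw [← Over.w e]
    infer_instance
  · infer_instance
  · rw [Category.assoc, h6, Over.w e]

/-- `π : Z ⟶ X` is the blow-up of the arithmetic surface `X` at the closed point `x`, the local ring at `x` has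
dimension two, and `Z` is again an arithmetic surface. -/
structure IsPtBlow {Z X : Over (Spec (CommRingCat.of R))} (π : Z ⟶ X) (x : X.left) : Prop where
  isClosed : IsClosed ({x} : Set X.left)
  dim_eq : ringKrullDim (X.left.presheaf.stalk x) = 2
  isBlowUp : BlowUp.IsBlowUp π.left (Scheme.IdealSheafData.vanishingIdeal ⟨{x}, isClosed⟩)
  source : ArSurf.IsArithSurface R Z
  target : ArSurf.IsArithSurface R X

theorem IsPtBlow.iso_comp {W Z X : Over (Spec (CommRingCat.of R))} {π : Z ⟶ X} {x : X.left}
    (h : IsPtBlow π x) (e : W ⟶ Z) [IsIso e] : IsPtBlow (e ≫ π) x where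
  isClosed := h.isClosed
  dim_eq := h.dim_eq
  isBlowUp :=
    have := isIso_left e
    Groth.Agent.Divis.BlowUpFormal.isBlowUp_of_iso h.isBlowUp (asIso e.left) rfl
  source := isArithSurface_of_iso e h.source
  target := h.target

/-- Composites of an isomorphism and `n` blow-ups of closed points. -/
inductive Chain : ∀ {Z X : Over (Spec (CommRingCat.of R))}, (Z ⟶ X) → ℕ → Prop
  /-- an isomorphism is a chain of length zero -/
  | iso {Z X : Over (Spec (CommRingCat.of R))} (e : Z ⟶ X) (he : IsIso e) : Chain e 0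
  /-- adding one blow-up at the source -/
  | step {Z Z' X : Over (Spec (CommRingCat.of R))} (π : Z ⟶ Z') (r : Z' ⟶ X) (n : ℕ) (z : Z'.left)
      (hπ : IsPtBlow π z) (hr : Chain r n) : Chain (π ≫ r) (n + 1)

theorem Chain.id (X : Over (Spec (CommRingCat.of R))) : Chain (𝟙 X) 0 := Chain.iso _ inferInstance

theorem Chain.of_eq {Z X : Over (Spec (CommRingCat.of R))} {r r' : Z ⟶ X} {n n' : ℕ}
    (h : Chain r n) (e : r = r') (e' : n = n') : Chain r' n' := e ▸ e' ▸ h

/-- A chain of length zero is an isomorphism. -/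
theorem Chain.isIso {Z X : Over (Spec (CommRingCat.of R))} {r : Z ⟶ X}
    (h : Chain r 0) : IsIso r := by
  generalize hm : 0 = m at h
  cases h with
  | iso e he => exact he
  | step π r n z hπ hr => simp at hm

/-- A chain of positive length: peel off the last blow-up. -/
theorem Chain.exists_step {Z X : Over (Spec (CommRingCat.of R))} {r : Z ⟶ X} {n : ℕ}
    (h : Chain r (n + 1)) : ∃ (Z' : Over (Spec (CommRingCat.of R))) (π : Z ⟶ Z') (r' : Z' ⟶ X) (z : Z'.left),
      IsPtBlow π z ∧ Chain r' n ∧ r = π ≫ r' := by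
  generalize hm : n + 1 = m at h
  cases h with
  | iso e he => simp at hm
  | step π r k z hπ hr =>
    obtain rfl : n = k := by omega
    exact ⟨_, π, r, z, hπ, hr, rfl⟩

theorem Chain.comp_iso {Z X Y : Over (Spec (CommRingCat.of R))} {r : Z ⟶ X} {n : ℕ}
    (h : Chain r n) (e : X ⟶ Y) [IsIso e] : Chain (r ≫ e) n := by
  induction h with
  | iso e' he' => exact Chain.iso _ inferInstance
  | step π r n z hπ hr ih =>
    rw [Category.assoc]
    exact Chain.step π _ n z hπ (ih e)

theorem Chain.iso_comp {W Z X : Over (Spec (CommRingCat.of R))} {r : Z ⟶ X} {n : ℕ}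
    (h : Chain r n) (e : W ⟶ Z) [IsIso e] : Chain (e ≫ r) n := by
  cases h with
  | iso e' he' => exact Chain.iso _ inferInstance
  | step π r n z hπ hr =>
    rw [← Category.assoc]
    exact Chain.step (e ≫ π) r _ z (hπ.iso_comp e) hr

/-- Composition of chains. -/
theorem Chain.comp {Z Y X : Over (Spec (CommRingCat.of R))} {r : Z ⟶ Y} {s : Y ⟶ X} {m n : ℕ}
    (h : Chain r m) (h' : Chain s n) : Chain (r ≫ s) (m + n) := by
  induction h with
  | iso e he => simpa using h'.iso_comp e
  | step π r k z hπ hr ih =>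
    rw [Category.assoc, show k + 1 + n = (k + n) + 1 by omega]
    exact Chain.step π _ _ z hπ (ih h')

/-- A single blow-up is a chain of length one. -/
theorem IsPtBlow.chain {Z X : Over (Spec (CommRingCat.of R))} {π : Z ⟶ X} {x : X.left}
    (h : IsPtBlow π x) : Chain π 1 :=
  (Chain.step π (𝟙 X) 0 x h (Chain.id X)).of_eq (Category.comp_id _) rfl

theorem Chain.source {Z X : Over (Spec (CommRingCat.of R))} {r : Z ⟶ X} {n : ℕ}
    (h : Chain r n) (hX : ArSurf.IsArithSurface R X) : ArSurf.IsArithSurface R Z := by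
  cases h with
  | iso _ he => exact isArithSurface_of_iso r hX
  | step π r n z hπ hr => exact hπ.source

end

end Groth.Agent.Ega4B.PtChain
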